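import Cfsg.Agent.LV.EP.Fin
import Cfsg.Agent.DL.Dw.Final

/-!
# LV: the Hadamard quotient theorem for the denominators `D (q ^ m)` (helper89)

* `mero_inv` : `m ↦ (D (Q ^ m))⁻¹` is meromorphic with integral multiplicities if `‖Q‖ < 1` and `D 0 = ± 1`;
* `spectral_quot` : if `E` is spectral, `E m g = D (q ^ m) * A m g` and `A` has integral values, then `A` is spectral;
* `gen_of_int` : `(D 1)⁻¹ • lefFun E` is a generalized character;
* `tr_int` : the trace of an integral matrix on the image of a commuting rational idempotent is an integer.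
-/

set_option autoImplicit false
set_option maxHeartbeats 400000

namespace Cfsg.Agent.LV.EP

open Cfsg Cfsg.Agent.DL.Lef Cfsg.Agent.DL.Dw Cfsg.Agent.Characters Filter Topology
open scoped ComplexConjugate Polynomial

section ultra

variable {E : Type} [NormedField E]

theorem fredBd_geom (a : E) : FredBd (fun R => max 1 (‖a‖ * R)) (fun m => a ^ m) := by
  refine ⟨fun j => PowerSeries.coeff j (1 - PowerSeries.C a * PowerSeries.X : PowerSeries E),
    (newton_iff _ _).2 ⟨by simp, by rw [gen_geom]; simp [Derivation.leibniz]⟩, fun R hR j => ?_⟩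
  rcases j with _ | _ | j
  · simp
  · simp [PowerSeries.coeff_one]
  · simp [PowerSeries.coeff_one]

theorem fredBd_zero : FredBd (fun _ => 1) (fun _ => (0 : E)) :=
  ((fredBd_geom (0 : E)).congr fun m hm => zero_pow hm.ne').mono fun R _ => by simp

variable [IsUltrametricDist E]

theorem fredBd_sum {ι : Type} (s : Finset ι) {C : ι → ℝ → ℝ} {S : ι → ℕ → E} (h : ∀ i, FredBd (C i) (S i)) :
    FredBd (fun R => ∏ i ∈ s, C i R) fun m => ∑ i ∈ s, S i m := by
  classical
  induction s using Finset.induction_on with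
  | empty => simpa using fredBd_zero
  | insert i s hi ih => simpa only [Finset.prod_insert hi, Finset.sum_insert hi] using (h i).add ih

theorem fredBd_nsmul {C : ℝ → ℝ} {S : ℕ → E} (h : FredBd C S) (n : ℕ) :
    FredBd (fun R => C R ^ n) fun m => (n : E) * S m := by
  simpa using fredBd_sum (Finset.range n) (C := fun _ => C) (S := fun _ => S) fun _ => h

theorem norm_aeval_le (P : ℤ[X]) {x : E} (hx : ‖x‖ ≤ 1) : ‖Polynomial.aeval x P‖ ≤ 1 := by
  induction P using Polynomial.induction_on' with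
  | add p q hp hq =>
    rw [map_add]
    exact (IsUltrametricDist.norm_add_le_max _ _).trans (max_le hp hq)
  | monomial n a =>
    rw [Polynomial.aeval_monomial, norm_mul, norm_pow]
    exact mul_le_one₀ (IsUltrametricDist.norm_intCast_le_one E a) (by positivity) (pow_le_one₀ (norm_nonneg _) hx)

variable [CompleteSpace E] [CharZero E]

omit [CharZero E] in
theorem tendsto_series {x : E} (hx : ‖x‖ < 1) (n : ℕ → ℕ) :
    Tendsto (fun k => ∑ j ∈ Finset.range k, (n j : E) * x ^ j) atTop (𝓝 (∑' j, (n j : E) * x ^ j)) := by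
  refine (Summable.of_norm_bounded (summable_geometric_of_lt_one (norm_nonneg x) hx) fun j => ?_).hasSum.tendsto_sum_nat
  rw [norm_mul, norm_pow]
  exact mul_le_of_le_one_left (by positivity) (IsUltrametricDist.norm_natCast_le_one E _)

theorem fred_series {Q : E} (hQ : ‖Q‖ < 1) (n : ℕ → ℕ) : Fred fun m => ∑' j, (n j : E) * (Q ^ m) ^ j := by
  have h1 : ∀ R : ℝ, ∃ J : ℕ, 1 ≤ R → ‖Q‖ ^ J * R ≤ 1 := fun R => by
    by_cases hR : 1 ≤ R
    · obtain ⟨J, hJ⟩ := exists_pow_lt_of_lt_one (inv_pos.2 (lt_of_lt_of_le one_pos hR)) hQ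
      exact ⟨J, fun _ => by
        have := mul_le_mul_of_nonneg_right hJ.le (zero_le_one.trans hR)
        rwa [inv_mul_cancel₀ (lt_of_lt_of_le one_pos hR).ne'] at this⟩
    · exact ⟨0, fun h => absurd h hR⟩
  choose J hJ using h1
  refine ⟨fun R => R ^ ∑ j ∈ Finset.range (J R), n j, FredBd.of_tendsto (l := atTop)
    (S := fun k m => ∑ j ∈ Finset.range k, (n j : E) * (Q ^ m) ^ j)
    (fun m hm => tendsto_series (by rw [norm_pow]; exact pow_lt_one₀ (norm_nonneg _) hQ hm.ne') n)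
    (Eventually.of_forall fun k => ?_)⟩
  refine ((fredBd_sum (Finset.range k) fun j => fredBd_nsmul (fredBd_geom (Q ^ j)) (n j)).congr fun m _ =>
    Finset.sum_congr rfl fun j _ => by rw [← pow_mul, ← pow_mul, mul_comm j m]).mono fun R hR => ?_
  have h2 : ∀ j ∈ Finset.range k, max 1 (‖Q ^ j‖ * R) ^ n j ≤ R ^ if j < J R then n j else 0 := by
    intro j _
    split_ifs with hj
    · refine pow_le_pow_left₀ (by positivity) (max_le hR ?_) _
      rw [norm_pow]
      exact mul_le_of_le_one_left (zero_le_one.trans hR) (pow_le_one₀ (norm_nonneg _) hQ.le)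
    · rw [max_eq_left, one_pow, pow_zero]
      rw [norm_pow]
      exact (mul_le_mul_of_nonneg_right (pow_le_pow_of_le_one (norm_nonneg _) hQ.le (not_lt.1 hj))
        (zero_le_one.trans hR)).trans (hJ R hR)
  refine (Finset.prod_le_prod (fun j _ => by positivity) h2).trans ?_
  rw [Finset.prod_pow_eq_pow_sum, ← Finset.sum_filter]
  exact pow_le_pow_right₀ hR (Finset.sum_le_sum_of_subset fun j hj => Finset.mem_range.2 (Finset.mem_filter.1 hj).2)

/-- **the inverse of `D (Q ^ m)`** -/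
theorem mero_inv {Q : E} (hQ : ‖Q‖ < 1) {D : ℤ[X]} (hD : IsUnit (D.coeff 0)) :
    Mero fun m => (Polynomial.aeval (Q ^ m) D)⁻¹ := by
  let c := PowerSeries.invOfUnit (D : PowerSeries ℤ) hD.unit
  have hc : (D : PowerSeries ℤ) * c = 1 := PowerSeries.mul_invOfUnit _ _ (by simp)
  refine ⟨_, _, fred_series hQ fun j => (PowerSeries.coeff j c).toNat,
    fred_series hQ fun j => (-PowerSeries.coeff j c).toNat, fun m hm => ?_⟩
  have hx : ‖Q ^ m‖ < 1 := by rw [norm_pow]; exact pow_lt_one₀ (norm_nonneg _) hQ hm.ne'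
  beta_reduce
  generalize Q ^ m = x at hx
  have h1 := ((tendsto_series hx fun j => (PowerSeries.coeff j c).toNat).sub
    (tendsto_series hx fun j => (-PowerSeries.coeff j c).toNat)).const_mul (Polynomial.aeval x D)
  refine inv_eq_of_mul_eq_one_right (tendsto_nhds_unique h1 ?_)
  rw [tendsto_iff_norm_sub_tendsto_zero]
  refine squeeze_zero (fun _ => norm_nonneg _) (fun k => ?_) (tendsto_pow_atTop_nhds_zero_of_lt_one (norm_nonneg x) hx)
  have h2 : ∑ j ∈ Finset.range k, ((PowerSeries.coeff j c).toNat : E) * x ^ j -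
      ∑ j ∈ Finset.range k, ((-PowerSeries.coeff j c).toNat : E) * x ^ j = Polynomial.aeval x (PowerSeries.trunc k c) := by
    rw [Polynomial.aeval_def, PowerSeries.eval₂_trunc_eq_sum_range, ← Finset.sum_sub_distrib]
    refine Finset.sum_congr rfl fun j _ => ?_
    rw [← sub_mul, ← Int.cast_natCast, ← Int.cast_natCast (-PowerSeries.coeff j c).toNat, ← Int.cast_sub,
      Int.toNat_sub_toNat_neg]
    rfl
  obtain ⟨r, hr⟩ : Polynomial.X ^ k ∣ D * PowerSeries.trunc k c - 1 := by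
    refine Polynomial.X_pow_dvd_iff.2 fun d hd => ?_
    have h3 := PowerSeries.coeff_mul_eq_coeff_trunc_mul_trunc₂ (D : PowerSeries ℤ) c
      (lt_max_of_lt_left (Nat.lt_succ_self d) : d < max (d + 1) (D.natDegree + 1)) hd
    rw [hc, PowerSeries.trunc_coe_eq_self (lt_max_of_lt_right (Nat.lt_succ_self _)), ← Polynomial.coe_mul,
      Polynomial.coeff_coe] at h3
    rw [Polynomial.coeff_sub, ← h3, ← Polynomial.coe_one, Polynomial.coeff_coe, sub_self]
  rw [h2, ← map_mul, ← map_one (Polynomial.aeval x : ℤ[X] →ₐ[ℤ] E), ← map_sub, hr, map_mul, map_pow, Polynomial.aeval_X,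
    norm_mul, norm_pow]
  exact mul_le_of_le_one_right (by positivity) (norm_aeval_le r hx.le)

end ultra

theorem exists_bound {S : ℕ → ℂ} (h : ExpC S) : ∃ C Q : ℝ, 0 ≤ C ∧ 0 ≤ Q ∧ ∀ m, 0 < m → ‖S m‖ ≤ C * Q ^ m := by
  refine ⟨∑ γ ∈ (spec S).support, ‖spec S γ‖, ∑ γ ∈ (spec S).support, ‖γ‖, by positivity, by positivity, fun m hm => ?_⟩
  rw [h.rep.eq m hm, Finset.sum_mul]
  refine (norm_sum_le _ _).trans (Finset.sum_le_sum fun γ hγ => ?_)
  rw [norm_mul, norm_pow]
  exact mul_le_mul_of_nonneg_left (pow_le_pow_left₀ (norm_nonneg _)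
    (Finset.single_le_sum (f := fun γ : ℂ => ‖γ‖) (fun _ _ => norm_nonneg _) hγ) m) (norm_nonneg _)

theorem eval_ne {p q : ℕ} (hp : p.Prime) (hq : p ∣ q) {D : ℤ[X]} (hD : IsUnit (D.coeff 0)) {m : ℕ} (hm : 0 < m) :
    D.eval ((q : ℤ) ^ m) ≠ 0 := fun h => by
  have h1 : (q : ℤ) ^ m - 0 ∣ D.eval ((q : ℤ) ^ m) - D.eval 0 := Polynomial.sub_dvd_eval_sub _ _ _
  rw [h, sub_zero, zero_sub, dvd_neg, ← Polynomial.coeff_zero_eq_eval_zero] at h1
  have h2 : (p : ℤ) ∣ D.coeff 0 := ((Int.natCast_dvd_natCast.2 hq).trans (dvd_pow_self _ hm.ne')).trans h1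
  exact (Nat.prime_iff_prime_int.1 hp).not_isUnit (isUnit_of_dvd_unit h2 hD)

theorem aeval_nat {K : Type} [Field K] (q m : ℕ) (D : ℤ[X]) :
    Polynomial.aeval ((q : K) ^ m) D = ((D.eval ((q : ℤ) ^ m) : ℤ) : K) := by
  have h := Polynomial.aeval_algebraMap_apply_eq_algebraMap_eval (A := K) ((q : ℤ) ^ m) D
  simpa using h

variable {G : Type} [Group G] [Fintype G]

/-- **the Hadamard quotient theorem** -/
theorem spectral_quot {E A : ℕ → G → ℂ} (hE : Spectral G E) {D : ℤ[X]} (hD : IsUnit (D.coeff 0)) {p q : ℕ}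
    (hp : p.Prime) (hq : p ∣ q) (h : ∀ m, 0 < m → ∀ g, E m g = Polynomial.aeval ((q : ℂ) ^ m) D * A m g)
    (hA : ∀ m, 0 < m → ∀ g, ∃ n : ℤ, A m g = n) : Spectral G A := by
  classical
  have : Fact p.Prime := ⟨hp⟩
  obtain ⟨φ⟩ := nonempty_padicComplex_equiv p
  have h0 : ∀ m, 0 < m → Polynomial.aeval ((q : ℂ) ^ m) D ≠ 0 := fun m hm => by
    rw [aeval_nat]
    exact Int.cast_ne_zero.2 (eval_ne hp hq hD hm)
  have hQ : ‖(q : ℂ_[p])‖ < 1 := by
    obtain ⟨r, rfl⟩ := hq
    rw [Nat.cast_mul, norm_mul]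
    refine mul_lt_one_of_nonneg_of_lt_one_left (norm_nonneg _) ?_ (IsUltrametricDist.norm_natCast_le_one _ r)
    have h1 : ((p : ℂ_[p])) = ((p : ℚ_[p]) : ℂ_[p]) := by simp
    rw [h1, PadicComplex.norm_extends']
    exact Padic.norm_p_lt_one
  have hI : Mero fun m => ((D.eval ((q : ℤ) ^ m) : ℤ) : ℂ_[p])⁻¹ := (mero_inv hQ hD).congr fun m _ => by
    rw [aeval_nat]
  have hA' : ∀ g m, ∃ n : ℤ, 0 < m → A m g = n := fun g m => by
    by_cases hm : 0 < m
    · obtain ⟨n, hn⟩ := hA m hm g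
      exact ⟨n, fun _ => hn⟩
    · exact ⟨0, fun h1 => absurd h1 hm⟩
  choose a ha using hA'
  have key : ∀ {S T : ℕ → ℂ}, ExpC S → (∀ m, 0 < m → S m = Polynomial.aeval ((q : ℂ) ^ m) D * T m) → ∀ m, 0 < m →
      φ.symm (T m) = ∑ γ ∈ (spec S).support, φ.symm (spec S γ) *
        (φ.symm γ ^ m * ((D.eval ((q : ℤ) ^ m) : ℤ) : ℂ_[p])⁻¹) := by
    intro S T hS hT m hm
    have h1 : T m = S m * (Polynomial.aeval ((q : ℂ) ^ m) D)⁻¹ := by
      rw [hT m hm, mul_comm, ← mul_assoc, inv_mul_cancel₀ (h0 m hm), one_mul]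
    rw [h1, hS.rep.eq m hm, map_mul, map_sum, Finset.sum_mul, aeval_nat, map_inv₀, map_intCast]
    exact Finset.sum_congr rfl fun γ _ => by rw [map_mul, map_pow, mul_assoc]; rfl
  choose C Q hC hQ0 hb using fun g => exists_bound (hE.expC g)
  refine ⟨fun m hm g x => mul_left_cancel₀ (h0 m hm) (by rw [← h m hm, ← h m hm, hE.cls m hm g x]), fun χ hχ => ?_⟩
  have hS := hE.expZ χ hχ
  have h2 : ∀ m, 0 < m → ∑ g, (Nat.card G : ℂ)⁻¹ * conj (χ g) * (a g m : ℂ) = classInner (A m) χ := fun m hm => by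
    rw [Core.classInner_def, Finset.mul_sum]
    exact Finset.sum_congr rfl fun g _ => by rw [ha g m hm]; ring
  refine (expZ_of_finsupp (dwork_complex p φ a (∑ g, C g) (∑ g, Q g) (fun g m hm => ?_) (fun g => ?_)
    (fun g => (Nat.card G : ℂ)⁻¹ * conj (χ g)) ?_)).congr h2
  · have h6 : |(a g m : ℝ)| ≤ ‖E m g‖ := by
      rw [h m hm, ha g m hm, aeval_nat, norm_mul, Complex.norm_intCast, Complex.norm_intCast]
      refine le_mul_of_one_le_left (abs_nonneg _) ?_
      exact_mod_cast Int.one_le_abs (eval_ne hp hq hD hm)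
    refine h6.trans ((hb g m hm).trans (mul_le_mul (Finset.single_le_sum (fun g _ => hC g) (Finset.mem_univ g))
      (pow_le_pow_left₀ (hQ0 g) (Finset.single_le_sum (fun g _ => hQ0 g) (Finset.mem_univ g)) m) (pow_nonneg (hQ0 g) m)
      (Finset.sum_nonneg fun g _ => hC g)))
  · refine Quot.of_lincomb (spec fun m => E m g).support (fun γ => φ.symm (spec (fun m => E m g) γ)) _
      (fun γ _ => hI.geom_mul (φ.symm γ)) fun m hm => ?_
    rw [← key (hE.expC g) (fun m hm => h m hm g) m hm, ha g m hm, map_intCast]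
  · choose n hn using hS.2
    refine (Mero.sum (spec fun m => classInner (E m) χ).support _
      fun γ _ => (hI.geom_mul (φ.symm γ)).zsmul (n γ)).congr fun m hm => ?_
    have h6 := key hS.expC (T := fun m => classInner (A m) χ) (fun m hm => by
      rw [← Core.classInner_smul_left]
      congr 1
      exact funext (h m hm)) m hm
    simp only [hn, map_intCast] at h6
    rw [← h6, ← h2 m hm, map_sum]
    exact Finset.sum_congr rfl fun g _ => by rw [map_mul, map_intCast]

/-- **the integrality theorem** -/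
theorem gen_of_int {E A : ℕ → G → ℂ} (hE : Spectral G E) {D : ℤ[X]} (hD : IsUnit D.trailingCoeff) (h1 : D.eval 1 ≠ 0)
    {p q : ℕ} (hp : p.Prime) (hq : p ∣ q) (h : ∀ m, 0 < m → ∀ g, E m g = Polynomial.aeval ((q : ℂ) ^ m) D * A m g)
    (hA : ∀ m, 0 < m → ∀ g, ∃ n : ℤ, A m g = n) (hq0 : q ≠ 0) :
    IsGeneralizedCharacter G ((((D.eval 1 : ℤ) : ℂ))⁻¹ • lefFun E) := by
  obtain ⟨D', hD'⟩ : Polynomial.X ^ D.natTrailingDegree ∣ D :=
    Polynomial.X_pow_dvd_iff.2 fun d hd => Polynomial.coeff_eq_zero_of_lt_natTrailingDegree hd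
  have h2 : D'.coeff 0 = D.trailingCoeff := by
    have := Polynomial.coeff_X_pow_mul D' D.natTrailingDegree 0
    rw [← hD', zero_add] at this
    exact this.symm
  have h3 : ∀ m, 0 < m → ∀ g, E m g = Polynomial.aeval ((q : ℂ) ^ m) D' * (((q : ℂ) ^ m) ^ D.natTrailingDegree * A m g) :=
    fun m hm g => by
      rw [h m hm g]
      conv_lhs => rw [hD', map_mul, map_pow, Polynomial.aeval_X]
      ring
  have h4 := spectral_quot hE (h2 ▸ hD) hp hq h3 fun m hm g => by
    obtain ⟨n, hn⟩ := hA m hm g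
    exact ⟨((q : ℤ) ^ m) ^ D.natTrailingDegree * n, by rw [hn]; push_cast; rfl⟩
  have h5 : D.eval 1 = D'.eval 1 := by
    conv_lhs => rw [hD']
    simp
  have hq' : (q : ℂ) ≠ 0 := Nat.cast_ne_zero.2 hq0
  convert h4.isGeneralizedCharacter using 1
  funext g
  rw [Pi.smul_apply, lefFun_apply, lefFun_apply, lef_congr (fun m hm => h3 m hm g),
    lef_mul (rep_aeval D' hq').expC (h4.expC g), lef_aeval D' hq', ← h5, smul_eq_mul,
    inv_mul_cancel_left₀ (Int.cast_ne_zero.2 h1)]

section tr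

variable {V : Type} [AddCommGroup V] [Module ℂ V] [FiniteDimensional ℂ V]

theorem isIntegral_tr {f : Module.End ℂ V} (hf : IsIntegral ℤ f) : IsIntegral ℤ (LinearMap.trace ℂ V f) := by
  rw [Module.End.trace_eq_sum_roots_charpoly_of_splits (IsAlgClosed.splits _)]
  apply IsIntegral.multiset_sum
  intro z hz
  have hev : f.HasEigenvalue z := (Module.End.hasEigenvalue_iff_isRoot_charpoly f z).2 (Polynomial.mem_roots'.1 hz).2
  obtain ⟨v, hv⟩ := hev.exists_hasEigenvector
  obtain ⟨P, hP, h0⟩ := hf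
  refine ⟨P, hP, ?_⟩
  have h1 := Module.End.aeval_apply_of_hasEigenvector (p := P.map (algebraMap ℤ ℂ)) hv
  rw [Polynomial.aeval_map_algebraMap, Polynomial.aeval_def, h0, LinearMap.zero_apply, Polynomial.eval_map] at h1
  exact (smul_eq_zero.1 h1.symm).resolve_right hv.2

theorem isIntegral_mul_idem {R : Type} [Ring R] {a e : R} (ha : IsIntegral ℤ a) (he : e * e = e) (hc : a * e = e * a) :
    IsIntegral ℤ (a * e) := by
  obtain ⟨P, hP, h0⟩ := ha
  have h1 : ∀ k : ℕ, (a * e) ^ k * e = a ^ k * e := fun k => by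
    induction k with
    | zero => rw [pow_zero, pow_zero]
    | succ k ih =>
      calc (a * e) ^ (k + 1) * e = (a * e) ^ k * (e * a) := by rw [pow_succ, mul_assoc, mul_assoc, he, ← hc]
        _ = a ^ (k + 1) * e := by rw [← mul_assoc, ih, mul_assoc, ← hc, ← mul_assoc, ← pow_succ]
  have h2 : ∀ Q : ℤ[X], Polynomial.aeval (a * e) Q * e = Polynomial.aeval a Q * e := fun Q => by
    induction Q using Polynomial.induction_on' with
    | add p q hp hq => rw [map_add, map_add, add_mul, add_mul, hp, hq]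
    | monomial k c => rw [Polynomial.aeval_monomial, Polynomial.aeval_monomial, mul_assoc, mul_assoc, h1]
  refine ⟨P * Polynomial.X, hP.mul Polynomial.monic_X, ?_⟩
  rw [← Polynomial.aeval_def] at h0 ⊢
  rw [map_mul, Polynomial.aeval_X, hc, ← mul_assoc, ← hc, h2, h0, zero_mul, zero_mul]

/-- **the trace of an integral operator on the image of a commuting idempotent** -/
theorem tr_int {a e : Module.End ℂ V} (ha : IsIntegral ℤ a) (he : e * e = e) (hc : a * e = e * a)
    (hq : ∃ r : ℚ, LinearMap.trace ℂ V (a * e) = r) : ∃ n : ℤ, LinearMap.trace ℂ V (a * e) = n := by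
  obtain ⟨r, hr⟩ := hq
  have h1 := isIntegral_tr (isIntegral_mul_idem ha he hc)
  rw [hr] at h1 ⊢
  obtain ⟨n, hn⟩ := IsIntegrallyClosed.isIntegral_iff.1
    ((isIntegral_algHom_iff (IsScalarTower.toAlgHom ℤ ℚ ℂ) (algebraMap ℚ ℂ).injective).1 h1)
  exact ⟨n, by rw [← hn]; simp⟩

end tr

end Cfsg.Agent.LV.EP
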